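import Mathlib

/-!
# Translations on a commutative Hopf algebra after a change of rings
-/

set_option autoImplicit false
set_option linter.style.haveILetI false

universe u

open scoped TensorProduct

noncomputable section

namespace Groth.Agent.GlueTors

variable {R : Type u} [CommRing R] (O : Type u) [CommRing O] [Bialgebra R O]

/-- The right coaction of `O` on `T ⊗ O`. -/
def rho (T : Type u) [CommRing T] [Algebra R T] : T ⊗[R] O →ₐ[R] (T ⊗[R] O) ⊗[R] O :=
  (Algebra.TensorProduct.assoc R R R T O O).symm.toAlgHom.comp
    (Algebra.TensorProduct.map (AlgHom.id R T) (Bialgebra.comulAlgHom R O))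

variable {O}
variable (T : Type u) [CommRing T] [Algebra R T]

theorem rho_tmul (c : T) (f : O) :
    rho O T (c ⊗ₜ f) = (Algebra.TensorProduct.assoc R R R T O O).symm (c ⊗ₜ Coalgebra.comul (R := R) f) := rfl

variable {T}

/-- Naturality of the coaction in the ring. -/
theorem rho_map {T' : Type u} [CommRing T'] [Algebra R T'] (h : T →ₐ[R] T') (z : T ⊗[R] O) :
    Algebra.TensorProduct.map (Algebra.TensorProduct.map h (AlgHom.id R O)) (AlgHom.id R O) (rho O T z) =
      rho O T' (Algebra.TensorProduct.map h (AlgHom.id R O) z) := by
  induction z using TensorProduct.induction_on with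
  | zero => simp
  | tmul c f =>
    rw [Algebra.TensorProduct.map_tmul, rho_tmul, rho_tmul]
    show _ = (Algebra.TensorProduct.assoc R R R T' O O).symm (h c ⊗ₜ Coalgebra.comul (R := R) f)
    induction Coalgebra.comul (R := R) f using TensorProduct.induction_on with
    | zero => simp
    | tmul a b => simp
    | add a b ha hb => rw [TensorProduct.tmul_add, map_add, map_add, TensorProduct.tmul_add, map_add, ha, hb]
  | add a b ha hb => simp only [map_add, ha, hb]

/-- Translation by a point. -/
def trans (x : O →ₐ[R] T) : T ⊗[R] O →ₐ[T] T ⊗[R] O :=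
  Algebra.TensorProduct.lift (Algebra.ofId T _)
    ((Algebra.TensorProduct.map x (AlgHom.id R O)).comp (Bialgebra.comulAlgHom R O)) fun _ _ => .all _ _

theorem trans_tmul (x : O →ₐ[R] T) (c : T) (f : O) :
    trans x (c ⊗ₜ f) = c • Algebra.TensorProduct.map x (AlgHom.id R O) (Coalgebra.comul (R := R) f) := by
  rw [Algebra.smul_def]
  exact Algebra.TensorProduct.lift_tmul _ _ _ _ _

/-- The product of two points. -/
def conv (x y : O →ₐ[R] T) : O →ₐ[R] T :=
  (Algebra.TensorProduct.lift x y fun _ _ => .all _ _).comp (Bialgebra.comulAlgHom R O)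

theorem map_comul_coassoc (f : O) :
    (Algebra.TensorProduct.assoc R R R O O O)
      (Algebra.TensorProduct.map (Bialgebra.comulAlgHom R O) (AlgHom.id R O) (Coalgebra.comul (R := R) f)) =
      Algebra.TensorProduct.map (AlgHom.id R O) (Bialgebra.comulAlgHom R O) (Coalgebra.comul (R := R) f) := by
  exact Coalgebra.coassoc_apply f

theorem trans_trans (x y : O →ₐ[R] T) (z : T ⊗[R] O) : trans x (trans y z) = trans (conv y x) z := by
  induction z using TensorProduct.induction_on with
  | zero => simp
  | add a b ha hb => simp only [map_add, ha, hb]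
  | tmul c f =>
    rw [trans_tmul, map_smul, trans_tmul]
    congr 1
    have h1 : ∀ u : O ⊗[R] O, trans x (Algebra.TensorProduct.map y (AlgHom.id R O) u) =
        Algebra.TensorProduct.map (Algebra.TensorProduct.lift y x fun _ _ => .all _ _) (AlgHom.id R O)
          ((Algebra.TensorProduct.assoc R R R O O O).symm
            (Algebra.TensorProduct.map (AlgHom.id R O) (Bialgebra.comulAlgHom R O) u)) := fun u => by
      induction u using TensorProduct.induction_on with
      | zero => simp
      | add a b ha hb => simp only [map_add, ha, hb]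
      | tmul a b =>
        rw [Algebra.TensorProduct.map_tmul, Algebra.TensorProduct.map_tmul, trans_tmul]
        show _ = Algebra.TensorProduct.map _ _ ((Algebra.TensorProduct.assoc R R R O O O).symm (a ⊗ₜ Coalgebra.comul (R := R) b))
        simp only [AlgHom.id_apply]
        induction Coalgebra.comul (R := R) b using TensorProduct.induction_on with
        | zero => simp
        | tmul p q => simp [TensorProduct.smul_tmul']
        | add p q hp hq => simp only [map_add, TensorProduct.tmul_add, smul_add, hp, hq]
    rw [h1, ← map_comul_coassoc, AlgEquiv.symm_apply_apply]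
    have h2 : ∀ u : O ⊗[R] O, Algebra.TensorProduct.map (Algebra.TensorProduct.lift y x fun _ _ => .all _ _) (AlgHom.id R O)
        (Algebra.TensorProduct.map (Bialgebra.comulAlgHom R O) (AlgHom.id R O) u) =
        Algebra.TensorProduct.map (conv y x) (AlgHom.id R O) u := fun u => by
      induction u using TensorProduct.induction_on with
      | zero => simp
      | tmul a b => rfl
      | add a b ha hb => simp only [map_add, ha, hb]
    exact h2 _

theorem trans_counit (z : T ⊗[R] O) : trans ((Algebra.ofId R T).comp (Bialgebra.counitAlgHom R O)) z = z := by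
  induction z using TensorProduct.induction_on with
  | zero => simp
  | add a b ha hb => simp only [map_add, ha, hb]
  | tmul c f =>
    rw [trans_tmul]
    have h : ∀ u : O ⊗[R] O, Algebra.TensorProduct.map ((Algebra.ofId R T).comp (Bialgebra.counitAlgHom R O)) (AlgHom.id R O) u =
        (1 : T) ⊗ₜ[R] TensorProduct.lid R O (LinearMap.rTensor O (Coalgebra.counit (R := R)) u) := fun u => by
      induction u using TensorProduct.induction_on with
      | zero => simp
      | tmul a b =>
        simp only [Algebra.TensorProduct.map_tmul, LinearMap.rTensor_tmul, TensorProduct.lid_tmul]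
        rw [TensorProduct.tmul_smul, TensorProduct.smul_tmul', Algebra.smul_def, mul_one]
        rfl
      | add a b ha hb => simp only [map_add, TensorProduct.tmul_add, ha, hb]
    rw [h, Coalgebra.rTensor_counit_comul, TensorProduct.lid_tmul, one_smul, TensorProduct.smul_tmul', smul_eq_mul, mul_one]

/-- The coaction commutes with translations. -/
theorem rho_trans (x : O →ₐ[R] T) (z : T ⊗[R] O) :
    rho O T (trans x z) = Algebra.TensorProduct.map ((trans x).restrictScalars R) (AlgHom.id R O) (rho O T z) := by
  induction z using TensorProduct.induction_on with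
  | zero => simp
  | add a b ha hb => simp only [map_add, ha, hb]
  | tmul c f =>
    have hs : ∀ (c : T) (w : T ⊗[R] O), rho O T (c • w) =
        ((c ⊗ₜ[R] (1 : O)) ⊗ₜ[R] (1 : O)) * rho O T w := fun c w => by
      rw [show c • w = (c ⊗ₜ[R] (1 : O)) * w by rw [Algebra.smul_def]; rfl, map_mul]
      congr 1
      rw [rho_tmul, Bialgebra.comul_one, Algebra.TensorProduct.one_def]
      rfl
    rw [trans_tmul, hs]
    have hR : rho O T (c ⊗ₜ f) = ((c ⊗ₜ[R] (1 : O)) ⊗ₜ[R] (1 : O)) * rho O T (1 ⊗ₜ f) := by
      rw [← hs, TensorProduct.smul_tmul', smul_eq_mul, mul_one]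
    rw [hR, map_mul, Algebra.TensorProduct.map_tmul, map_one,
      show (trans x).restrictScalars R (c ⊗ₜ[R] (1 : O)) = c ⊗ₜ[R] (1 : O) from (trans x).commutes c]
    congr 1
    have h1 : ∀ u : O ⊗[R] O, rho O T (Algebra.TensorProduct.map x (AlgHom.id R O) u) =
        Algebra.TensorProduct.map (Algebra.TensorProduct.map x (AlgHom.id R O)) (AlgHom.id R O)
          ((Algebra.TensorProduct.assoc R R R O O O).symm
            (Algebra.TensorProduct.map (AlgHom.id R O) (Bialgebra.comulAlgHom R O) u)) := fun u => by
      induction u using TensorProduct.induction_on with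
      | zero => simp
      | add a b ha hb => simp only [map_add, ha, hb]
      | tmul a b =>
        rw [Algebra.TensorProduct.map_tmul, Algebra.TensorProduct.map_tmul, rho_tmul]
        show _ = Algebra.TensorProduct.map _ _ ((Algebra.TensorProduct.assoc R R R O O O).symm (a ⊗ₜ Coalgebra.comul (R := R) b))
        show (Algebra.TensorProduct.assoc R R R T O O).symm (x a ⊗ₜ Coalgebra.comul (R := R) b) = _
        induction Coalgebra.comul (R := R) b using TensorProduct.induction_on with
        | zero => simp
        | tmul p q => simp
        | add p q hp hq => simp only [map_add, TensorProduct.tmul_add, hp, hq]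
    rw [h1, ← map_comul_coassoc, AlgEquiv.symm_apply_apply, rho_tmul]
    induction Coalgebra.comul (R := R) f using TensorProduct.induction_on with
    | zero => simp
    | add p q hp hq => simp only [map_add, TensorProduct.tmul_add, hp, hq]
    | tmul p q =>
      rw [Algebra.TensorProduct.map_tmul]
      show _ = Algebra.TensorProduct.map ((trans x).restrictScalars R) (AlgHom.id R O) (((1 : T) ⊗ₜ[R] p) ⊗ₜ[R] q)
      rw [Algebra.TensorProduct.map_tmul, Algebra.TensorProduct.map_tmul, AlgHom.restrictScalars_apply, trans_tmul,
        one_smul]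
      rfl

theorem map_trans {T' : Type u} [CommRing T'] [Algebra R T'] (h : T →ₐ[R] T') (x : O →ₐ[R] T) (z : T ⊗[R] O) :
    Algebra.TensorProduct.map h (AlgHom.id R O) (trans x z) =
      trans (h.comp x) (Algebra.TensorProduct.map h (AlgHom.id R O) z) := by
  induction z using TensorProduct.induction_on with
  | zero => simp
  | add a b ha hb => simp only [map_add, ha, hb]
  | tmul c f =>
    rw [Algebra.TensorProduct.map_tmul, trans_tmul, trans_tmul]
    simp only [AlgHom.id_apply]
    induction Coalgebra.comul (R := R) f using TensorProduct.induction_on with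
    | zero => simp
    | tmul a b => simp [TensorProduct.smul_tmul']
    | add a b ha hb => simp only [map_add, smul_add, ha, hb]

/-- Evaluation at a point. -/
def ev (x : O →ₐ[R] T) : T ⊗[R] O →ₐ[T] T :=
  Algebra.TensorProduct.lift (AlgHom.id T T) x fun _ _ => .all _ _

theorem ev_tmul (x : O →ₐ[R] T) (c : T) (f : O) : ev x (c ⊗ₜ f) = c * x f :=
  Algebra.TensorProduct.lift_tmul _ _ _ _ _

theorem ev_trans (x y : O →ₐ[R] T) (f : O) : ev x (trans y (1 ⊗ₜ f)) = conv y x f := by
  rw [trans_tmul, one_smul]
  show _ = Algebra.TensorProduct.lift y x (fun _ _ => .all _ _) (Coalgebra.comul (R := R) f)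
  induction Coalgebra.comul (R := R) f using TensorProduct.induction_on with
  | zero => simp
  | tmul a b => simp [ev_tmul]
  | add a b ha hb => simp only [map_add, ha, hb]

end Groth.Agent.GlueTors
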