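import Mathlib
import Groth.Agent.GlueTorsLib.Translate

/-!
# Gluing an algebra from a localisation and a completion
-/

set_option autoImplicit false
set_option linter.style.haveILetI false
set_option maxHeartbeats 1000000
set_option synthInstance.maxHeartbeats 200000

universe u

open scoped TensorProduct

noncomputable section

namespace Groth.Agent.GlueTors

/-- The preimage of a subspace commutes with flat tensor products. -/
theorem mem_range_rTensor_comap {R : Type u} [CommRing R] (O : Type u) [AddCommGroup O] [Module R O]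
    [Module.Flat R O] {V W : Type u} [AddCommGroup V] [Module R V] [AddCommGroup W] [Module R W]
    (f : V →ₗ[R] W) (S : Submodule R W) (z : V ⊗[R] O)
    (hz : LinearMap.rTensor O f z ∈ LinearMap.range (LinearMap.rTensor O S.subtype)) :
    z ∈ LinearMap.range (LinearMap.rTensor O (S.comap f).subtype) := by
  have hex : Function.Exact (S.comap f).subtype (S.mkQ ∘ₗ f) := by
    intro v
    simp
  have hex2 : Function.Exact S.subtype S.mkQ := LinearMap.exact_subtype_mkQ S
  refine ((Module.Flat.rTensor_exact O hex) z).1 ?_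
  obtain ⟨y, hy⟩ := hz
  rw [LinearMap.rTensor_comp, LinearMap.comp_apply, ← hy, ← LinearMap.comp_apply, ← LinearMap.rTensor_comp,
    hex2.linearMap_comp_eq_zero, LinearMap.rTensor_zero, LinearMap.zero_apply]

variable {R : Type u} [CommRing R] (r : R)
variable (A B C : Type u) [CommRing A] [CommRing B] [CommRing C] [Algebra R A] [Algebra R B] [Algebra R C]
  [Algebra A C] [Algebra B C] [IsScalarTower R A C] [IsScalarTower R B C]
  [IsLocalization.Away r A] [IsLocalization.Away (algebraMap R B r) C]
variable (O : Type u) [CommRing O] [Bialgebra R O]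

/-- The map to the overlap. -/
def ιA : A ⊗[R] O →ₐ[R] C ⊗[R] O := Algebra.TensorProduct.map (IsScalarTower.toAlgHom R A C) (AlgHom.id R O)

/-- The map to the overlap. -/
def ιB : B ⊗[R] O →ₐ[R] C ⊗[R] O := Algebra.TensorProduct.map (IsScalarTower.toAlgHom R B C) (AlgHom.id R O)

variable {A B C O}
variable (x : O →ₐ[R] C)

/-- The lattice. -/
def lat : Subalgebra R (C ⊗[R] O) := (((trans x).restrictScalars R).comp (ιB B C O)).range

/-- The glued algebra. -/
def glue : Subalgebra R (A ⊗[R] O) := (lat (B := B) x).comap (ιA A C O)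

theorem ιB_smul (b : B) (z : B ⊗[R] O) : ιB B C O (b • z) = algebraMap B C b • ιB B C O z := by
  induction z using TensorProduct.induction_on with
  | zero => simp
  | tmul c f => simp [ιB, TensorProduct.smul_tmul', Algebra.smul_def]
  | add p q hp hq => simp only [map_add, smul_add, hp, hq]

theorem smul_mem_lat (b : B) {z : C ⊗[R] O} (hz : z ∈ lat (B := B) x) :
    algebraMap B C b • z ∈ lat (B := B) x := by
  obtain ⟨y, rfl⟩ := hz
  refine ⟨b • y, ?_⟩
  show trans x (ιB B C O (b • y)) = algebraMap B C b • trans x (ιB B C O y)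
  rw [ιB_smul, map_smul]

theorem exists_pow_smul_mem_range (z : C ⊗[R] O) :
    ∃ (n : ℕ) (y : B ⊗[R] O), r ^ n • z = ιB B C O y := by
  induction z using TensorProduct.induction_on with
  | zero => exact ⟨0, 0, by simp⟩
  | tmul c f =>
    obtain ⟨n, b, hb⟩ := IsLocalization.Away.surj (algebraMap R B r) c
    refine ⟨n, b ⊗ₜ f, ?_⟩
    rw [TensorProduct.smul_tmul', ιB, Algebra.TensorProduct.map_tmul, IsScalarTower.coe_toAlgHom', ← hb,
      Algebra.smul_def, map_pow, ← IsScalarTower.algebraMap_apply R B C, mul_comm]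
    rfl
  | add p q hp hq =>
    obtain ⟨n, y, hy⟩ := hp
    obtain ⟨n', y', hy'⟩ := hq
    refine ⟨n + n', r ^ n' • y + r ^ n • y', ?_⟩
    rw [smul_add, map_add, map_smul, map_smul, ← hy, ← hy', smul_smul, smul_smul, ← pow_add, ← pow_add,
      add_comm n' n]

variable [Module.Flat R O] (hreg : IsSMulRegular B r)

include hreg in
theorem ιB_injective : Function.Injective (ιB (R := R) B C O) := by
  have hinj : Function.Injective (algebraMap B C) := by
    intro b b' h
    obtain ⟨⟨_, n, rfl⟩, hc⟩ := (IsLocalization.eq_iff_exists (Submonoid.powers (algebraMap R B r)) C).1 h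
    have h' : r ^ n • b = r ^ n • b' := by
      simpa [Algebra.smul_def, map_pow] using hc
    exact hreg.pow n h'
  exact Module.Flat.rTensor_preserves_injective_linearMap (M := O) (IsScalarTower.toAlgHom R B C).toLinearMap hinj

variable (x' : O →ₐ[R] C) (hxx' : ∀ z : C ⊗[R] O, trans x (trans x' z) = z)
  (hx'x : ∀ z : C ⊗[R] O, trans x' (trans x z) = z)

include hxx' in
theorem exists_pow_smul_mem_glue (a : A ⊗[R] O) : ∃ n : ℕ, r ^ n • a ∈ glue (B := B) x := by
  obtain ⟨n, y, hy⟩ := exists_pow_smul_mem_range (B := B) r (trans x' (ιA A C O a))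
  refine ⟨n, y, ?_⟩
  show trans x (ιB B C O y) = ιA A C O (r ^ n • a)
  have hs : ∀ (w : C ⊗[R] O), trans x (r ^ n • w) = r ^ n • trans x w := fun w =>
    map_smul ((trans x).restrictScalars R) (r ^ n) w
  rw [← hy, hs, hxx', map_smul]

/-- The component on the completion. -/
def psi : glue (A := A) (B := B) x →ₐ[R] B ⊗[R] O :=
  haveI : Function.Injective (((trans x).restrictScalars R).comp (ιB B C O)) :=
    (Function.LeftInverse.injective hx'x).comp (ιB_injective r hreg)
  (AlgEquiv.ofInjective _ this).symm.toAlgHom.comp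
    (((ιA A C O).comp (glue (A := A) (B := B) x).val).codRestrict (lat (B := B) x) fun p => p.2)

theorem trans_psi (p : glue (A := A) (B := B) x) :
    trans x (ιB B C O (psi r x hreg x' hx'x p)) = ιA A C O p.1 := by
  have hi : Function.Injective (((trans x).restrictScalars R).comp (ιB B C O)) :=
    (Function.LeftInverse.injective hx'x).comp (ιB_injective r hreg)
  exact congrArg Subtype.val ((AlgEquiv.ofInjective _ hi).apply_symm_apply
    ((((ιA A C O).comp (glue (A := A) (B := B) x).val).codRestrict (lat (B := B) x) fun p => p.2) p))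

/-- The comparison on the completion. -/
def theta : B ⊗[R] glue (A := A) (B := B) x →ₐ[B] B ⊗[R] O :=
  Algebra.TensorProduct.lift (Algebra.ofId B _) (psi r x hreg x' hx'x) fun _ _ => .all _ _

theorem theta_tmul (b : B) (p : glue (A := A) (B := B) x) :
    theta r x hreg x' hx'x (b ⊗ₜ p) = b • psi r x hreg x' hx'x p := by
  rw [Algebra.smul_def]
  exact Algebra.TensorProduct.lift_tmul _ _ _ _ _

theorem trans_theta (t : B ⊗[R] glue (A := A) (B := B) x) (b : B) :
    trans x (ιB B C O (b • theta r x hreg x' hx'x t)) =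
      algebraMap B C b • trans x (ιB B C O (theta r x hreg x' hx'x t)) := by
  rw [ιB_smul, map_smul]

/-- The map `B ⊗ (A ⊗ O) → C ⊗ O`. -/
def mulA : B ⊗[R] (A ⊗[R] O) →ₗ[R] C ⊗[R] O :=
  TensorProduct.lift (LinearMap.mk₂ R (fun (b : B) (a : A ⊗[R] O) => algebraMap B C b • ιA A C O a)
    (fun b b' a => by rw [map_add, add_smul])
    (fun c b a => by
      rw [Algebra.smul_def c b, map_mul, mul_smul, ← IsScalarTower.algebraMap_apply R B C, algebraMap_smul])
    (fun b a a' => by rw [map_add, smul_add])
    (fun c b a => by rw [map_smul, smul_comm]))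

theorem mulA_tmul (b : B) (a : A ⊗[R] O) : mulA (B := B) (C := C) (b ⊗ₜ a) = algebraMap B C b • ιA A C O a := rfl

/-- The map `B ⊗ O → B ⊗ (A ⊗ O)`. -/
def incA : B ⊗[R] O →ₗ[R] B ⊗[R] (A ⊗[R] O) :=
  LinearMap.lTensor B (TensorProduct.mk R A O 1)

theorem mulA_incA (z : B ⊗[R] O) : mulA (R := R) (A := A) (B := B) (C := C) (O := O) (incA (R := R) (A := A) (B := B) (O := O) z) = ιB (R := R) B C O z := by
  induction z using TensorProduct.induction_on with
  | zero => simp
  | tmul b f =>
    show algebraMap B C b • ιA (R := R) A C O ((1 : A) ⊗ₜ[R] f) = _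
    simp [ιA, ιB, TensorProduct.smul_tmul', Algebra.smul_def]
  | add p q hp hq => simp only [map_add, hp, hq]

include r in
theorem exists_pow_smul_mem_incA (t : B ⊗[R] (A ⊗[R] O)) :
    ∃ (n : ℕ) (z : B ⊗[R] O), r ^ n • t = incA z := by
  induction t using TensorProduct.induction_on with
  | zero => exact ⟨0, 0, by simp⟩
  | tmul b a =>
    induction a using TensorProduct.induction_on with
    | zero => exact ⟨0, 0, by simp⟩
    | tmul c f =>
      obtain ⟨n, d, hd⟩ := IsLocalization.Away.surj r c
      refine ⟨n, b ⊗ₜ (d • f), ?_⟩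
      rw [← TensorProduct.tmul_smul, TensorProduct.smul_tmul', Algebra.smul_def, map_pow, mul_comm, hd]
      show _ = b ⊗ₜ ((1 : A) ⊗ₜ (d • f))
      rw [← TensorProduct.smul_tmul, Algebra.algebraMap_eq_smul_one]
    | add p q hp hq =>
      obtain ⟨n, y, hy⟩ := hp
      obtain ⟨n', y', hy'⟩ := hq
      refine ⟨n + n', r ^ n' • y + r ^ n • y', ?_⟩
      rw [TensorProduct.tmul_add, smul_add, map_add, map_smul, map_smul, ← hy, ← hy', smul_smul, smul_smul,
        ← pow_add, ← pow_add, add_comm n' n]
  | add p q hp hq =>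
    obtain ⟨n, y, hy⟩ := hp
    obtain ⟨n', y', hy'⟩ := hq
    refine ⟨n + n', r ^ n' • y + r ^ n • y', ?_⟩
    rw [smul_add, map_add, map_smul, map_smul, ← hy, ← hy', smul_smul, smul_smul, ← pow_add, ← pow_add,
      add_comm n' n]

omit [Module.Flat R O] in
include r in
theorem bijective_pow_smul_A (n : ℕ) : Function.Bijective fun c : A => r ^ n • c := by
  have hu : IsUnit (algebraMap R A r ^ n) := (IsLocalization.Away.algebraMap_isUnit r).pow n
  have h : (fun c : A => r ^ n • c) = fun c => algebraMap R A r ^ n * c := by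
    funext c; rw [Algebra.smul_def, map_pow]
  rw [h]
  exact hu.unit.mulLeft.bijective

include r hreg in
theorem mulA_injective : Function.Injective (mulA (R := R) (A := A) (B := B) (C := C) (O := O)) := by
  rw [injective_iff_map_eq_zero]
  intro t ht
  obtain ⟨n, z, hz⟩ := exists_pow_smul_mem_incA r t
  have hz0 : z = 0 := by
    apply ιB_injective (C := C) (O := O) r hreg
    rw [← mulA_incA (A := A), ← hz, map_smul, ht, smul_zero, map_zero]
  rw [hz0, map_zero] at hz
  let e : A ⊗[R] O ≃ₗ[R] A ⊗[R] O := TensorProduct.congr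
    (LinearEquiv.ofBijective (r ^ n • LinearMap.id : A →ₗ[R] A) (bijective_pow_smul_A r n)) (LinearEquiv.refl R O)
  let E : B ⊗[R] (A ⊗[R] O) ≃ₗ[R] B ⊗[R] (A ⊗[R] O) := TensorProduct.congr (LinearEquiv.refl R B) e
  have hE : ∀ t, E t = r ^ n • t := fun t => by
    induction t using TensorProduct.induction_on with
    | zero => simp
    | tmul b a =>
      show b ⊗ₜ e a = _
      rw [← TensorProduct.tmul_smul]
      congr 1
    | add p q hp hq => simp only [map_add, smul_add, hp, hq]
  exact E.injective (by rw [hE, hz, map_zero])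

include hxx' in
theorem theta_bijective [Module.Flat R B] (hB : ∀ (n : ℕ) (b : B), ∃ (c : R) (b' : B), b = algebraMap R B c + r ^ n • b') :
    Function.Bijective (theta (A := A) r x hreg x' hx'x) := by
  have hmid : ∀ t, mulA (C := C) (LinearMap.lTensor B (glue (A := A) (B := B) x).val.toLinearMap t) =
      trans x (ιB B C O (theta r x hreg x' hx'x t)) := fun t => by
    induction t using TensorProduct.induction_on with
    | zero => simp
    | tmul b p =>
      rw [LinearMap.lTensor_tmul, mulA_tmul, theta_tmul, ιB_smul, map_smul, trans_psi]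
      rfl
    | add p q hp hq => simp only [map_add, hp, hq]
  constructor
  · rw [injective_iff_map_eq_zero]
    intro t ht
    apply Module.Flat.lTensor_preserves_injective_linearMap (M := B)
      (glue (A := A) (B := B) x).val.toLinearMap Subtype.val_injective
    rw [map_zero]
    apply mulA_injective (C := C) r hreg
    rw [map_zero, hmid, ht, map_zero, map_zero]
  · intro y
    have hsurj : ∀ w : C ⊗[R] O, ∃ t : B ⊗[R] (A ⊗[R] O), mulA (C := C) t = w := fun w => by
      induction w using TensorProduct.induction_on with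
      | zero => exact ⟨0, map_zero _⟩
      | tmul c f =>
        obtain ⟨n, b, hb⟩ := IsLocalization.Away.surj (algebraMap R B r) c
        let a : A := IsLocalization.Away.invSelf r ^ n
        have ha : algebraMap R A r ^ n * a = 1 := by
          rw [← mul_pow, IsLocalization.Away.mul_invSelf, one_pow]
        refine ⟨b ⊗ₜ (a ⊗ₜ f), ?_⟩
        rw [mulA_tmul]
        show algebraMap B C b • (algebraMap A C a ⊗ₜ[R] f) = _
        rw [TensorProduct.smul_tmul', smul_eq_mul, ← hb, mul_assoc,
          ← IsScalarTower.algebraMap_apply R B C, IsScalarTower.algebraMap_apply R A C, ← map_pow, ← map_mul,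
          ha, map_one, mul_one]
      | add p q hp hq =>
        obtain ⟨t, ht⟩ := hp
        obtain ⟨t', ht'⟩ := hq
        exact ⟨t + t', by rw [map_add, ht, ht']⟩
    have hdec : ∀ t : B ⊗[R] (A ⊗[R] O), ∃ (u : B ⊗[R] glue (A := A) (B := B) x) (o : A ⊗[R] O),
        mulA (C := C) t =
          mulA (C := C) (LinearMap.lTensor B (glue (A := A) (B := B) x).val.toLinearMap u) + ιA A C O o := fun t => by
      induction t using TensorProduct.induction_on with
      | zero => exact ⟨0, 0, by simp⟩
      | tmul b a =>
        obtain ⟨n, hn⟩ := exists_pow_smul_mem_glue (B := B) r x x' hxx' a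
        obtain ⟨c, b', hb'⟩ := hB n b
        refine ⟨b' ⊗ₜ ⟨_, hn⟩, c • a, ?_⟩
        rw [LinearMap.lTensor_tmul, mulA_tmul, mulA_tmul, hb', map_add, add_smul, add_comm]
        congr 1
        · show algebraMap B C (r ^ n • b') • ιA A C O a = algebraMap B C b' • ιA A C O (r ^ n • a)
          rw [Algebra.smul_def (r ^ n) b', map_mul, mul_smul,
            ← IsScalarTower.algebraMap_apply R B C, algebraMap_smul, map_smul, smul_comm]
        · rw [← IsScalarTower.algebraMap_apply R B C, algebraMap_smul, map_smul]
      | add p q hp hq =>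
        obtain ⟨u, o, h⟩ := hp
        obtain ⟨u', o', h'⟩ := hq
        exact ⟨u + u', o + o', by simp only [map_add, h, h']; abel⟩
    obtain ⟨t, ht⟩ := hsurj (trans x (ιB B C O y))
    obtain ⟨u, o, ho⟩ := hdec t
    have hoP : o ∈ glue (A := A) (B := B) x := by
      show ιA A C O o ∈ lat (B := B) x
      rw [show ιA A C O o = trans x (ιB B C O (y - theta r x hreg x' hx'x u)) by
        rw [map_sub, map_sub, ← ht, ho, hmid, add_sub_cancel_left]]
      exact ⟨_, rfl⟩
    refine ⟨u + 1 ⊗ₜ ⟨o, hoP⟩, ?_⟩
    apply (Function.LeftInverse.injective hx'x).comp (ιB_injective (C := C) (O := O) r hreg)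
    show trans x (ιB B C O _) = trans x (ιB B C O y)
    rw [← ht, ho, map_add, map_add, map_add, hmid, theta_tmul, one_smul, trans_psi]

/-- The coaction preserves the glued algebra. -/
theorem rho_mem (p : glue (A := A) (B := B) x) :
    rho O A p.1 ∈ (Algebra.TensorProduct.map (glue (A := A) (B := B) x).val (AlgHom.id R O)).range := by
  obtain ⟨y, hy⟩ := p.2
  have h := mem_range_rTensor_comap O (ιA A C O).toLinearMap (Subalgebra.toSubmodule (lat (B := B) x)) (rho O A p.1) ?_
  · obtain ⟨t, ht⟩ := h
    exact ⟨t, ht⟩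
  · let fl : B ⊗[R] O →ₗ[R] Subalgebra.toSubmodule (lat (B := B) x) :=
      (((trans x).restrictScalars R).comp (ιB B C O)).toLinearMap.codRestrict _ fun z => ⟨z, rfl⟩
    refine ⟨LinearMap.rTensor O fl (rho O B y), ?_⟩
    rw [← LinearMap.comp_apply, ← LinearMap.rTensor_comp]
    have e1 : Algebra.TensorProduct.map (ιA A C O) (AlgHom.id R O) (rho O A p.1) = rho O C (ιA A C O p.1) :=
      rho_map _ _
    have e2 : rho O C (ιA A C O p.1) =
        Algebra.TensorProduct.map (((trans x).restrictScalars R).comp (ιB B C O)) (AlgHom.id R O) (rho O B y) := by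
      have hy' : trans x (ιB B C O y) = ιA A C O p.1 := hy
      rw [← hy', rho_trans]
      show Algebra.TensorProduct.map ((trans x).restrictScalars R) (AlgHom.id R O)
        (rho O C (Algebra.TensorProduct.map (IsScalarTower.toAlgHom R B C) (AlgHom.id R O) y)) = _
      rw [← rho_map]
      show ((Algebra.TensorProduct.map ((trans x).restrictScalars R) (AlgHom.id R O)).comp
        (Algebra.TensorProduct.map (ιB B C O) (AlgHom.id R O))) (rho O B y) = _
      rw [← Algebra.TensorProduct.map_comp, AlgHom.id_comp]
    exact (e1.trans e2).symm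

end Groth.Agent.GlueTors
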