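import Mathlib
import Groth.Prelude.Def_CoactBr
import Groth.Prelude.Def_NonAbH2
import Groth.Agent.GlueTorsLib.Lattice

/-!
# The glued algebra is a torsor
-/

set_option autoImplicit false
set_option linter.style.haveILetI false
set_option backward.isDefEq.respectTransparency false
set_option backward.isDefEq.respectTransparency.types false
set_option maxHeartbeats 1000000
set_option synthInstance.maxHeartbeats 200000

universe u

open CategoryTheory MonoidalCategory CartesianMonoidalCategory MonObj GrpObj AlgebraicGeometry Opposite
open scoped TensorProduct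

noncomputable section

local instance braidedAlgSpecGlue (R : Type u) [CommRing R] : (algSpec (CommRingCat.of R)).Braided :=
  braidedAlgSpec

namespace Groth.Agent.GlueTors

variable {R : Type u} [CommRing R] (r : R)
variable {A B C : Type u} [CommRing A] [CommRing B] [CommRing C] [Algebra R A] [Algebra R B] [Algebra R C]
  [Algebra A C] [Algebra B C] [IsScalarTower R A C] [IsScalarTower R B C]
  [IsLocalization.Away r A] [IsLocalization.Away (algebraMap R B r) C]
variable {O : Type u} [CommRing O] [HopfAlgebra R O] [Module.Flat R O]
variable (x : O →ₐ[R] C) (hreg : IsSMulRegular B r) (x' : O →ₐ[R] C)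
  (hxx' : ∀ z : C ⊗[R] O, trans x (trans x' z) = z) (hx'x : ∀ z : C ⊗[R] O, trans x' (trans x z) = z)

local notation "𝔓" => glue (A := A) (B := B) x

/-- The embedding of the target of the coaction. -/
def incPO : 𝔓 ⊗[R] O →ₐ[R] (A ⊗[R] O) ⊗[R] O :=
  Algebra.TensorProduct.map (glue (A := A) (B := B) x).val (AlgHom.id R O)

theorem incPO_injective : Function.Injective (incPO (A := A) (B := B) x) :=
  Module.Flat.rTensor_preserves_injective_linearMap (M := O)
    (glue (A := A) (B := B) x).val.toLinearMap Subtype.val_injective

/-- The coaction on the glued algebra. -/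
def coact : 𝔓 →ₐ[R] 𝔓 ⊗[R] O :=
  (AlgEquiv.ofInjective (incPO (A := A) (B := B) x) (incPO_injective x)).symm.toAlgHom.comp
    (((rho (R := R) O A).comp (glue (A := A) (B := B) x).val).codRestrict (incPO (A := A) (B := B) x).range fun p =>
      rho_mem x p)

theorem incPO_coact (p : 𝔓) : incPO (A := A) (B := B) x (coact (A := A) (B := B) x p) = rho (R := R) O A p.1 :=
  congrArg Subtype.val ((AlgEquiv.ofInjective (incPO (A := A) (B := B) x) (incPO_injective x)).apply_symm_apply
    ((((rho (R := R) O A).comp (glue (A := A) (B := B) x).val).codRestrict (incPO (A := A) (B := B) x).range fun p =>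
      rho_mem x p) p))

/-- The comodule structure on the glued algebra. -/
@[reducible] def comodGlue : HopfRep.Comod R O 𝔓 where
  coact := (coact (A := A) (B := B) x).toLinearMap
  coassoc := by
    apply LinearMap.ext
    intro p
    apply Module.Flat.rTensor_preserves_injective_linearMap (M := O ⊗[R] O)
      (glue (A := A) (B := B) x).val.toLinearMap Subtype.val_injective
    have e1 : ∀ w : 𝔓 ⊗[R] O,
        LinearMap.rTensor (O ⊗[R] O) (glue (A := A) (B := B) x).val.toLinearMap
          (TensorProduct.assoc R _ O O ((coact (A := A) (B := B) x).toLinearMap.rTensor O w)) =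
        TensorProduct.assoc R _ O O ((rho (R := R) O A).toLinearMap.rTensor O (incPO (A := A) (B := B) x w)) := fun w => by
      induction w using TensorProduct.induction_on with
      | zero => simp
      | add a b ha hb => simp only [map_add, ha, hb]
      | tmul q f =>
        show _ = TensorProduct.assoc R _ O O (rho (R := R) O A q.1 ⊗ₜ f)
        rw [← incPO_coact]
        show LinearMap.rTensor (O ⊗[R] O) (glue (A := A) (B := B) x).val.toLinearMap
          (TensorProduct.assoc R _ O O (coact (A := A) (B := B) x q ⊗ₜ f)) = _
        induction coact (A := A) (B := B) x q using TensorProduct.induction_on with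
        | zero => simp
        | add a b ha hb => simp only [map_add, TensorProduct.add_tmul, ha, hb]
        | tmul a b => rfl
    have e2 : ∀ w : 𝔓 ⊗[R] O,
        LinearMap.rTensor (O ⊗[R] O) (glue (A := A) (B := B) x).val.toLinearMap
          ((Coalgebra.comul (R := R) (A := O)).lTensor 𝔓 w) =
        (Coalgebra.comul (R := R) (A := O)).lTensor (A ⊗[R] O) (incPO (A := A) (B := B) x w) := fun w => by
      induction w using TensorProduct.induction_on with
      | zero => simp
      | add a b ha hb => simp only [map_add, ha, hb]
      | tmul q f => rfl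
    simp only [LinearMap.comp_apply, AlgHom.toLinearMap_apply, LinearEquiv.coe_coe]
    rw [e1, e2, incPO_coact]
    generalize (p : A ⊗[R] O) = a
    induction a using TensorProduct.induction_on with
    | zero => simp
    | add u v hu hv => simp only [map_add, hu, hv]
    | tmul c f =>
      rw [rho_tmul]
      have e3 : ∀ t : O ⊗[R] O, TensorProduct.assoc R _ O O ((rho (R := R) O A).toLinearMap.rTensor O
            ((Algebra.TensorProduct.assoc R R R A O O).symm (c ⊗ₜ t))) =
          TensorProduct.map ((TensorProduct.mk R A O c)) LinearMap.id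
            (TensorProduct.assoc R O O O ((Coalgebra.comul (R := R) (A := O)).rTensor O t)) := fun t => by
        induction t using TensorProduct.induction_on with
        | zero => simp
        | add u v hu hv => simp only [TensorProduct.tmul_add, map_add, hu, hv]
        | tmul a b =>
          show TensorProduct.assoc R _ O O (rho (R := R) O A (c ⊗ₜ a) ⊗ₜ b) = _
          rw [rho_tmul, LinearMap.rTensor_tmul]
          induction Coalgebra.comul (R := R) a using TensorProduct.induction_on with
          | zero => simp
          | add u v hu hv => simp only [TensorProduct.tmul_add, TensorProduct.add_tmul, map_add, hu, hv]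
          | tmul u v => rfl
      have e4 : ∀ t : O ⊗[R] O, (Coalgebra.comul (R := R) (A := O)).lTensor (A ⊗[R] O)
            ((Algebra.TensorProduct.assoc R R R A O O).symm (c ⊗ₜ t)) =
          TensorProduct.map ((TensorProduct.mk R A O c)) LinearMap.id
            ((Coalgebra.comul (R := R) (A := O)).lTensor O t) := fun t => by
        induction t using TensorProduct.induction_on with
        | zero => simp
        | add u v hu hv => simp only [TensorProduct.tmul_add, map_add, hu, hv]
        | tmul a b => rfl
      rw [e3, e4, Coalgebra.coassoc_apply]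
  counit_comp := by
    apply LinearMap.ext
    intro p
    apply Module.Flat.rTensor_preserves_injective_linearMap (M := R)
      (glue (A := A) (B := B) x).val.toLinearMap Subtype.val_injective
    have e1 : ∀ w : 𝔓 ⊗[R] O,
        LinearMap.rTensor R (glue (A := A) (B := B) x).val.toLinearMap
          ((Coalgebra.counit (R := R) (A := O)).lTensor 𝔓 w) =
        (Coalgebra.counit (R := R) (A := O)).lTensor (A ⊗[R] O) (incPO (A := A) (B := B) x w) := fun w => by
      induction w using TensorProduct.induction_on with
      | zero => simp
      | add a b ha hb => simp only [map_add, ha, hb]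
      | tmul q f => rfl
    simp only [LinearMap.comp_apply, AlgHom.toLinearMap_apply]
    rw [e1, incPO_coact]
    show _ = (p : A ⊗[R] O) ⊗ₜ[R] (1 : R)
    generalize (p : A ⊗[R] O) = a
    induction a using TensorProduct.induction_on with
    | zero => simp
    | add u v hu hv => simp only [map_add, TensorProduct.add_tmul, hu, hv]
    | tmul c f =>
      rw [rho_tmul]
      have e2 : ∀ t : O ⊗[R] O, (Coalgebra.counit (R := R) (A := O)).lTensor (A ⊗[R] O)
            ((Algebra.TensorProduct.assoc R R R A O O).symm (c ⊗ₜ t)) =
          TensorProduct.map ((TensorProduct.mk R A O c)) LinearMap.id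
            ((Coalgebra.counit (R := R) (A := O)).lTensor O t) := fun t => by
        induction t using TensorProduct.induction_on with
        | zero => simp
        | add u v hu hv => simp only [TensorProduct.tmul_add, map_add, hu, hv]
        | tmul a b => rfl
      rw [e2, Coalgebra.lTensor_counit_comul]
      rfl

theorem isCoactAlg_glue : letI := comodGlue (A := A) (B := B) x; GLin.IsCoactAlg R O 𝔓 := by
  letI := comodGlue (A := A) (B := B) x
  exact ⟨map_one (coact (A := A) (B := B) x), map_mul (coact (A := A) (B := B) x)⟩

/-- The Galois map. -/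
def galGlue : 𝔓 ⊗[R] 𝔓 →ₐ[R] 𝔓 ⊗[R] O :=
  Algebra.TensorProduct.lift (coact (A := A) (B := B) x) Algebra.TensorProduct.includeLeft fun _ _ => .all _ _

/-- The Galois map of the group. -/
def galO : O ⊗[R] O →ₐ[R] O ⊗[R] O :=
  Algebra.TensorProduct.lift (Bialgebra.comulAlgHom R O) Algebra.TensorProduct.includeLeft fun _ _ => .all _ _

theorem galO_bijective : Function.Bijective (galO (R := R) (O := O)) := by
  let N : O ⊗[R] O →ₐ[R] O ⊗[R] O :=
    Algebra.TensorProduct.lift Algebra.TensorProduct.includeRight
      ((Algebra.TensorProduct.map (HopfAlgebra.antipodeAlgHom R O) (AlgHom.id R O)).comp (Bialgebra.comulAlgHom R O))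
      fun _ _ => .all _ _
  let w : CoactBr.sp R (O ⊗[R] O) ⟶ CoactBr.sp R O ⊗ CoactBr.sp R O :=
    lift (CoactBr.pt Algebra.TensorProduct.includeLeft) (CoactBr.pt Algebra.TensorProduct.includeRight)
  have hw : w ≫ Functor.LaxMonoidal.μ (algSpec (CommRingCat.of R)) (op (.of R O)) (op (.of R O)) =
      𝟙 (CoactBr.sp R (O ⊗[R] O)) := by
    rw [CoactBr.lift_pt_pt, ← CoactBr.pt_id]
    congr 1
    exact Algebra.TensorProduct.ext' fun a b => by simp
  haveI : IsIso w := by
    haveI : IsIso (w ≫ Functor.LaxMonoidal.μ (algSpec (CommRingCat.of R)) (op (.of R O)) (op (.of R O))) := by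
      rw [hw]
      exact IsIso.id _
    exact IsIso.of_isIso_comp_right w
      (Functor.LaxMonoidal.μ (algSpec (CommRingCat.of R)) (op (.of R O)) (op (.of R O)))
  let s : CoactBr.sp R O ⊗ CoactBr.sp R O ⟶ CoactBr.sp R O ⊗ CoactBr.sp R O :=
    lift (fst _ _ * snd _ _) (fst _ _)
  haveI : IsIso s := by
    refine ⟨lift (snd _ _) ((snd _ _)⁻¹ * fst _ _), ?_, ?_⟩
    · simp only [s, comp_lift, MonObj.comp_mul, GrpObj.comp_inv, lift_fst, lift_snd, _root_.inv_mul_cancel_left,
        lift_fst_snd]
    · simp only [s, comp_lift, MonObj.comp_mul, lift_fst, lift_snd, _root_.mul_inv_cancel_left, lift_fst_snd]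
  have key : CoactBr.pt (galO (R := R) (O := O)) =
      (w ≫ s) ≫ Functor.LaxMonoidal.μ (algSpec (CommRingCat.of R)) (op (.of R O)) (op (.of R O)) := by
    simp only [w, s, comp_lift, MonObj.comp_mul, lift_fst, lift_snd, CoactBr.pt_mul_pt]
    refine Eq.trans ?_ (CoactBr.lift_pt_pt _ _).symm
    congr 1
    have hid : ∀ u : O ⊗[R] O, Algebra.TensorProduct.lift (Algebra.TensorProduct.includeLeft : O →ₐ[R] O ⊗[R] O)
        (Algebra.TensorProduct.includeRight : O →ₐ[R] O ⊗[R] O) (fun _ _ => .all _ _) u = u := fun u => by
      induction u using TensorProduct.induction_on with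
      | zero => simp
      | tmul a b => simp
      | add a b ha hb => rw [map_add, ha, hb]
    refine Algebra.TensorProduct.ext' fun a b => ?_
    simp only [galO, Algebra.TensorProduct.lift_tmul, AlgHom.comp_apply, hid]
  haveI : IsIso ((w ≫ s) ≫ Functor.LaxMonoidal.μ (algSpec (CommRingCat.of R)) (op (.of R O)) (op (.of R O))) :=
    inferInstance
  haveI : IsIso (CoactBr.pt (galO (R := R) (O := O))) := key ▸ this
  haveI : IsIso (CoactBr.pt (galO (R := R) (O := O))).left :=
    inferInstanceAs (IsIso ((Over.forget _).map (CoactBr.pt (galO (R := R) (O := O)))))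
  let φ : CommRingCat.of (O ⊗[R] O) ⟶ CommRingCat.of (O ⊗[R] O) :=
    CommRingCat.ofHom (galO (R := R) (O := O)).toRingHom
  haveI : IsIso (Scheme.Spec.map φ.op) := by
    show IsIso (Spec.map φ)
    rw [← CoactBr.pt_left]
    infer_instance
  haveI : IsIso φ.op := isIso_of_reflects_iso φ.op Scheme.Spec
  haveI : IsIso φ := isIso_of_op φ
  exact (ConcreteCategory.isIso_iff_bijective φ).1 inferInstance

end Groth.Agent.GlueTors
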