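import Mathlib
import Groth.Agent.GlueTorsLib.Torsor

/-!
# The glued algebra: pseudo-torsor and descent of properties
-/

set_option autoImplicit false
set_option linter.style.haveILetI false
set_option backward.isDefEq.respectTransparency false
set_option backward.isDefEq.respectTransparency.types false
set_option maxHeartbeats 1000000
set_option synthInstance.maxHeartbeats 200000

universe u

open CategoryTheory MonoidalCategory CartesianMonoidalCategory MonObj GrpObj AlgebraicGeometry Opposite
open scoped TensorProduct

noncomputable section

local instance braidedAlgSpecGlue' (R : Type u) [CommRing R] : (algSpec (CommRingCat.of R)).Braided :=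
  braidedAlgSpec

namespace Groth.Agent.GlueTors

variable {R : Type u} [CommRing R] (r : R)
variable {A B C : Type u} [CommRing A] [CommRing B] [CommRing C] [Algebra R A] [Algebra R B] [Algebra R C]
  [Algebra A C] [Algebra B C] [IsScalarTower R A C] [IsScalarTower R B C]
  [IsLocalization.Away r A] [IsLocalization.Away (algebraMap R B r) C]
variable {O : Type u} [CommRing O] [HopfAlgebra R O] [Module.Flat R O]
variable (x : O →ₐ[R] C) (hreg : IsSMulRegular B r) (x' : O →ₐ[R] C)
  (hxx' : ∀ z : C ⊗[R] O, trans x (trans x' z) = z) (hx'x : ∀ z : C ⊗[R] O, trans x' (trans x z) = z)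

local notation "ψ₀" => psi (A := A) (B := B) r x hreg x' hx'x
local notation "P₀" => glue (A := A) (B := B) x

theorem map_psi_coact (p : P₀) :
    Algebra.TensorProduct.map ψ₀ (AlgHom.id R O) (coact (A := A) (B := B) x p) = rho (R := R) O B (ψ₀ p) := by
  have hinj : Function.Injective (((trans x).restrictScalars R).comp (ιB (R := R) B C O)) :=
    (Function.LeftInverse.injective hx'x).comp (ιB_injective r hreg)
  apply Module.Flat.rTensor_preserves_injective_linearMap (M := O)
    (((trans x).restrictScalars R).comp (ιB (R := R) B C O)).toLinearMap hinj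
  show Algebra.TensorProduct.map (((trans x).restrictScalars R).comp (ιB (R := R) B C O)) (AlgHom.id R O) _ =
    Algebra.TensorProduct.map (((trans x).restrictScalars R).comp (ιB (R := R) B C O)) (AlgHom.id R O) _
  have hcomp : (((trans x).restrictScalars R).comp (ιB (R := R) B C O)).comp ψ₀ =
      (ιA (R := R) A C O).comp (glue (A := A) (B := B) x).val :=
    AlgHom.ext fun q => trans_psi r x hreg x' hx'x q
  have e1 : ∀ w, Algebra.TensorProduct.map (((trans x).restrictScalars R).comp (ιB (R := R) B C O)) (AlgHom.id R O)
      (Algebra.TensorProduct.map ψ₀ (AlgHom.id R O) w) =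
      Algebra.TensorProduct.map (ιA (R := R) A C O) (AlgHom.id R O) (incPO (A := A) (B := B) x w) := fun w => by
    induction w using TensorProduct.induction_on with
    | zero => simp
    | add a b ha hb => simp only [map_add, ha, hb]
    | tmul q f =>
      show ((((trans x).restrictScalars R).comp (ιB (R := R) B C O)).comp ψ₀ q) ⊗ₜ[R] f = _
      rw [hcomp]
      rfl
  have e2 : ∀ w, Algebra.TensorProduct.map (((trans x).restrictScalars R).comp (ιB (R := R) B C O)) (AlgHom.id R O) w =
      Algebra.TensorProduct.map ((trans x).restrictScalars R) (AlgHom.id R O)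
        (Algebra.TensorProduct.map (ιB (R := R) B C O) (AlgHom.id R O) w) := fun w => by
    induction w using TensorProduct.induction_on with
    | zero => simp
    | add a b ha hb => simp only [map_add, ha, hb]
    | tmul q f => rfl
  rw [e1, incPO_coact, ιA, rho_map, ← ιA, ← trans_psi r x hreg x' hx'x, rho_trans, ιB, ← rho_map, ← ιB, ← e2]

/-- The comparison of triples, with the group. -/
def E₂ : B ⊗[R] (P₀ ⊗[R] O) →ₐ[B] B ⊗[R] (O ⊗[R] O) :=
  Algebra.TensorProduct.lift (Algebra.ofId B _)
    (Algebra.TensorProduct.lift
      ((Algebra.TensorProduct.map (AlgHom.id R B)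
        (Algebra.TensorProduct.includeLeft : O →ₐ[R] O ⊗[R] O)).comp ψ₀)
      ((Algebra.TensorProduct.includeRight : O ⊗[R] O →ₐ[R] B ⊗[R] (O ⊗[R] O)).comp
        Algebra.TensorProduct.includeRight) fun _ _ => .all _ _) fun _ _ => .all _ _

/-- The comparison of triples. -/
def E₁ : B ⊗[R] (P₀ ⊗[R] P₀) →ₐ[B] B ⊗[R] (O ⊗[R] O) :=
  Algebra.TensorProduct.lift (Algebra.ofId B _)
    (Algebra.TensorProduct.lift
      ((Algebra.TensorProduct.map (AlgHom.id R B)
        (Algebra.TensorProduct.includeLeft : O →ₐ[R] O ⊗[R] O)).comp ψ₀)
      ((Algebra.TensorProduct.map (AlgHom.id R B)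
        (Algebra.TensorProduct.includeRight : O →ₐ[R] O ⊗[R] O)).comp ψ₀) fun _ _ => .all _ _) fun _ _ => .all _ _

variable [Module.Flat R B] (hB : ∀ (n : ℕ) (b : B), ∃ (c : R) (b' : B), b = algebraMap R B c + r ^ n • b')

include hxx' hB in
theorem E₂_bijective : Function.Bijective (E₂ (A := A) (B := B) r x hreg x' hx'x) := by
  let θ : B ⊗[R] P₀ ≃ₗ[R] B ⊗[R] O := (LinearEquiv.ofBijective (theta r x hreg x' hx'x).toLinearMap
    (theta_bijective r x hreg x' hxx' hx'x hB)).restrictScalars R
  let e := (TensorProduct.assoc R B P₀ O).symm ≪≫ₗ TensorProduct.congr θ (LinearEquiv.refl R O) ≪≫ₗ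
    TensorProduct.assoc R B O O
  have h : ∀ t, E₂ r x hreg x' hx'x t = e t := fun t => by
    induction t using TensorProduct.induction_on with
    | zero => simp
    | add a b ha hb => simp only [map_add, ha, hb]
    | tmul b w =>
      induction w using TensorProduct.induction_on with
      | zero => simp
      | add a b ha hb => simp only [TensorProduct.tmul_add, map_add, ha, hb]
      | tmul p f =>
        simp only [E₂, Algebra.TensorProduct.lift_tmul, AlgHom.comp_apply, Algebra.TensorProduct.includeRight_apply]
        show _ = TensorProduct.assoc R B O O (theta r x hreg x' hx'x (b ⊗ₜ p) ⊗ₜ f)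
        rw [theta_tmul]
        induction ψ₀ p using TensorProduct.induction_on with
        | zero => simp
        | add u v hu hv => simp only [map_add, add_mul, mul_add, smul_add, TensorProduct.add_tmul, hu, hv]
        | tmul c o => simp [TensorProduct.smul_tmul']
  rw [show (E₂ r x hreg x' hx'x : B ⊗[R] (P₀ ⊗[R] O) → B ⊗[R] (O ⊗[R] O)) = e from funext h]
  exact e.bijective

include hxx' hB in
theorem E₁_bijective : Function.Bijective (E₁ (A := A) (B := B) r x hreg x' hx'x) := by
  let θ : B ⊗[R] P₀ ≃ₗ[R] B ⊗[R] O := (LinearEquiv.ofBijective (theta r x hreg x' hx'x).toLinearMap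
    (theta_bijective r x hreg x' hxx' hx'x hB)).restrictScalars R
  let e := (TensorProduct.assoc R B P₀ P₀).symm ≪≫ₗ TensorProduct.congr θ (LinearEquiv.refl R P₀) ≪≫ₗ
    TensorProduct.assoc R B O P₀ ≪≫ₗ TensorProduct.congr (LinearEquiv.refl R B) (TensorProduct.comm R O P₀) ≪≫ₗ
    (TensorProduct.assoc R B P₀ O).symm ≪≫ₗ TensorProduct.congr θ (LinearEquiv.refl R O) ≪≫ₗ
    TensorProduct.assoc R B O O ≪≫ₗ TensorProduct.congr (LinearEquiv.refl R B) (TensorProduct.comm R O O)
  have h : ∀ t, E₁ r x hreg x' hx'x t = e t := fun t => by
    induction t using TensorProduct.induction_on with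
    | zero => simp
    | add a b ha hb => simp only [map_add, ha, hb]
    | tmul b w =>
      induction w using TensorProduct.induction_on with
      | zero => simp
      | add a b ha hb => simp only [TensorProduct.tmul_add, map_add, ha, hb]
      | tmul p q =>
        simp only [E₁, Algebra.TensorProduct.lift_tmul, AlgHom.comp_apply]
        simp only [e, θ, LinearEquiv.trans_apply, TensorProduct.assoc_symm_tmul, TensorProduct.congr_tmul,
          LinearEquiv.restrictScalars_apply, LinearEquiv.refl_apply, LinearEquiv.ofBijective_apply,
          AlgHom.toLinearMap_apply, theta_tmul]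
        induction ψ₀ p using TensorProduct.induction_on with
        | zero => simp
        | add u v hu hv => simp only [map_add, add_mul, mul_add, smul_add, TensorProduct.add_tmul, hu, hv]
        | tmul c o =>
          simp only [TensorProduct.smul_tmul', TensorProduct.assoc_tmul, TensorProduct.congr_tmul,
            LinearEquiv.refl_apply, TensorProduct.comm_tmul, TensorProduct.assoc_symm_tmul,
            LinearEquiv.restrictScalars_apply, LinearEquiv.ofBijective_apply, AlgHom.toLinearMap_apply, theta_tmul]
          induction ψ₀ q using TensorProduct.induction_on with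
          | zero => simp
          | add u v hu hv => simp only [map_add, add_mul, mul_add, smul_add, TensorProduct.add_tmul, hu, hv]
          | tmul d o' => simp [TensorProduct.smul_tmul', _root_.mul_assoc]
  rw [show (E₁ r x hreg x' hx'x : B ⊗[R] (P₀ ⊗[R] P₀) → B ⊗[R] (O ⊗[R] O)) = e from funext h]
  exact e.bijective

omit [Module.Flat R B] in
theorem galGlue_comm (t : B ⊗[R] (P₀ ⊗[R] P₀)) :
      E₂ r x hreg x' hx'x (Algebra.TensorProduct.map (AlgHom.id B B) (galGlue (A := A) (B := B) x) t) =
      Algebra.TensorProduct.map (AlgHom.id B B) (galO (R := R) (O := O)) (E₁ r x hreg x' hx'x t) := by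
    induction t using TensorProduct.induction_on with
    | zero => simp
    | add a b ha hb => simp only [map_add, ha, hb]
    | tmul b w =>
      induction w using TensorProduct.induction_on with
      | zero => simp
      | add a b ha hb => simp only [TensorProduct.tmul_add, map_add, ha, hb]
      | tmul p q =>
        rw [Algebra.TensorProduct.map_tmul]
        simp only [AlgHom.id_apply, galGlue, Algebra.TensorProduct.lift_tmul]
        simp only [E₁, E₂, Algebra.TensorProduct.lift_tmul, map_mul, AlgHom.comp_apply]
        congr 1
        · simp [Algebra.TensorProduct.algebraMap_apply]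
        congr 1
        · have h1 : ∀ w : P₀ ⊗[R] O,
              Algebra.TensorProduct.lift ((Algebra.TensorProduct.map (AlgHom.id R B)
                  (Algebra.TensorProduct.includeLeft : O →ₐ[R] O ⊗[R] O)).comp ψ₀)
                ((Algebra.TensorProduct.includeRight : O ⊗[R] O →ₐ[R] B ⊗[R] (O ⊗[R] O)).comp
                  Algebra.TensorProduct.includeRight) (fun _ _ => .all _ _) w =
              (Algebra.TensorProduct.assoc R R R B O O) (Algebra.TensorProduct.map ψ₀ (AlgHom.id R O) w) := fun w => by
            induction w using TensorProduct.induction_on with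
            | zero => simp
            | add a b ha hb => simp only [map_add, ha, hb]
            | tmul p' f =>
              simp only [Algebra.TensorProduct.lift_tmul, AlgHom.comp_apply, Algebra.TensorProduct.map_tmul,
                AlgHom.id_apply, Algebra.TensorProduct.includeRight_apply]
              induction ψ₀ p' using TensorProduct.induction_on with
              | zero => simp
              | add u v hu hv => simp only [map_add, add_mul, TensorProduct.add_tmul, hu, hv]
              | tmul c o => simp
          rw [h1, map_psi_coact]
          induction ψ₀ p using TensorProduct.induction_on with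
          | zero => simp
          | add u v hu hv => simp only [map_add, hu, hv]
          | tmul c o =>
            rw [rho_tmul, AlgEquiv.apply_symm_apply]
            simp [galO, ← Algebra.TensorProduct.one_def]
        · simp only [Algebra.TensorProduct.includeLeft_apply, map_one, Algebra.TensorProduct.lift_tmul,
            AlgHom.comp_apply, _root_.mul_one]
          induction ψ₀ q using TensorProduct.induction_on with
          | zero => simp
          | add u v hu hv => simp only [map_add, hu, hv]
          | tmul c o => simp [galO]

omit [Module.Flat R B] in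
theorem galO_baseChange_bijective :
    Function.Bijective (Algebra.TensorProduct.map (AlgHom.id B B) (galO (R := R) (O := O))) := by
  have h : (Algebra.TensorProduct.map (AlgHom.id B B) (galO (R := R) (O := O)) : B ⊗[R] (O ⊗[R] O) → _) =
      TensorProduct.congr (LinearEquiv.refl R B) (LinearEquiv.ofBijective (galO (R := R) (O := O)).toLinearMap galO_bijective) := by
    funext t
    induction t using TensorProduct.induction_on with
    | zero => simp
    | add a b ha hb => simp only [map_add, ha, hb]
    | tmul b w => rfl
  rw [h]
  exact LinearEquiv.bijective _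

include hreg hxx' hx'x hB in
theorem lTensor_galGlue_bijective : Function.Bijective (LinearMap.lTensor B (galGlue (A := A) (B := B) x).toLinearMap) := by
  have h : ∀ t, LinearMap.lTensor B (galGlue (A := A) (B := B) x).toLinearMap t =
      Algebra.TensorProduct.map (AlgHom.id B B) (galGlue (A := A) (B := B) x) t := fun t => by
    induction t using TensorProduct.induction_on with
    | zero => simp
    | add a b ha hb => simp only [map_add, ha, hb]
    | tmul b w => rfl
  rw [show ⇑(LinearMap.lTensor B (galGlue (A := A) (B := B) x).toLinearMap) =
    ⇑(Algebra.TensorProduct.map (AlgHom.id B B) (galGlue (A := A) (B := B) x)) from funext h]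
  refine ((E₂_bijective r x hreg x' hxx' hx'x hB).of_comp_iff' _).1 ?_
  rw [show ⇑(E₂ r x hreg x' hx'x) ∘ _ = _ from funext (galGlue_comm (A := A) (B := B) r x hreg x' hx'x)]
  exact (galO_baseChange_bijective (R := R) (B := B) (O := O)).comp (E₁_bijective r x hreg x' hxx' hx'x hB)

omit [Module.Flat R B] in
theorem bijective_of_lTensor {N N' : Type u} [AddCommMonoid N] [Module R N] [AddCommMonoid N'] [Module R N']
    [Module.FaithfullyFlat R B] (f : N →ₗ[R] N') (h : Function.Bijective (LinearMap.lTensor B f)) :
    Function.Bijective f := by
  letI : AddCommGroup N := Module.addCommMonoidToAddCommGroup R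
  letI : AddCommGroup N' := Module.addCommMonoidToAddCommGroup R
  exact ⟨(Module.FaithfullyFlat.lTensor_injective_iff_injective R B f).1 h.1,
    (Module.FaithfullyFlat.lTensor_surjective_iff_surjective R B f).1 h.2⟩

include hreg hxx' hx'x hB in
theorem galGlue_bijective [Module.FaithfullyFlat R B] : Function.Bijective (galGlue (A := A) (B := B) x) :=
  bijective_of_lTensor (R := R) (B := B) (galGlue (A := A) (B := B) x).toLinearMap
    (lTensor_galGlue_bijective r x hreg x' hxx' hx'x hB)

end Groth.Agent.GlueTors
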