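import Mathlib
import Groth.Agent.GlueTorsLib.Galois

/-!
# Factorisation of a point from sections of torsors
-/

set_option autoImplicit false
set_option linter.style.haveILetI false
set_option backward.isDefEq.respectTransparency false
set_option backward.isDefEq.respectTransparency.types false
set_option maxHeartbeats 1000000
set_option synthInstance.maxHeartbeats 200000

universe u

open AlgebraicGeometry
open scoped TensorProduct

noncomputable section

namespace Groth.Agent.GlueTors

variable {R : Type u} [CommRing R]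

theorem conv_antipode_left {O T : Type u} [CommRing O] [HopfAlgebra R O] [CommRing T] [Algebra R T]
    (x : O →ₐ[R] T) :
    conv (x.comp (HopfAlgebra.antipodeAlgHom R O)) x = (Algebra.ofId R T).comp (Bialgebra.counitAlgHom R O) := by
  refine AlgHom.ext fun f => ?_
  have h : ∀ u : O ⊗[R] O, Algebra.TensorProduct.lift (x.comp (HopfAlgebra.antipodeAlgHom R O)) x
      (fun _ _ => .all _ _) u = x (LinearMap.mul' R O ((HopfAlgebra.antipode (R := R)).rTensor O u)) := fun u => by
    induction u using TensorProduct.induction_on with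
    | zero => simp
    | tmul a b => simp
    | add p q hp hq => simp only [map_add, hp, hq]
  refine (h _).trans ?_
  show x (LinearMap.mul' R O ((HopfAlgebra.antipode (R := R)).rTensor O (Coalgebra.comul f))) = _
  rw [HopfAlgebra.mul_antipode_rTensor_comul_apply, AlgHom.commutes]
  rfl

theorem conv_antipode_right {O T : Type u} [CommRing O] [HopfAlgebra R O] [CommRing T] [Algebra R T]
    (x : O →ₐ[R] T) :
    conv x (x.comp (HopfAlgebra.antipodeAlgHom R O)) = (Algebra.ofId R T).comp (Bialgebra.counitAlgHom R O) := by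
  refine AlgHom.ext fun f => ?_
  have h : ∀ u : O ⊗[R] O, Algebra.TensorProduct.lift x (x.comp (HopfAlgebra.antipodeAlgHom R O))
      (fun _ _ => .all _ _) u = x (LinearMap.mul' R O ((HopfAlgebra.antipode (R := R)).lTensor O u)) := fun u => by
    induction u using TensorProduct.induction_on with
    | zero => simp
    | tmul a b => simp
    | add p q hp hq => simp only [map_add, hp, hq]
  refine (h _).trans ?_
  show x (LinearMap.mul' R O ((HopfAlgebra.antipode (R := R)).lTensor O (Coalgebra.comul f))) = _
  rw [HopfAlgebra.mul_antipode_lTensor_comul_apply, AlgHom.commutes]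
  rfl

variable (r : R)
variable {A B C : Type u} [CommRing A] [CommRing B] [CommRing C] [Algebra R A] [Algebra R B] [Algebra R C]
  [Algebra A C] [Algebra B C] [IsScalarTower R A C] [IsScalarTower R B C]
  [IsLocalization.Away r A] [IsLocalization.Away (algebraMap R B r) C]
variable {O : Type u} [CommRing O] [HopfAlgebra R O] [Module.Flat R O]
variable (x : O →ₐ[R] C) (hreg : IsSMulRegular B r) (x' : O →ₐ[R] C)
  (hxx' : ∀ z : C ⊗[R] O, trans x (trans x' z) = z) (hx'x : ∀ z : C ⊗[R] O, trans x' (trans x z) = z)

local notation "P₀" => glue (A := A) (B := B) x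

include hxx' in
/-- The ambient algebra is a localisation of the glued algebra. -/
theorem isLocalization_glue : IsLocalization.Away (algebraMap R P₀ r) (A ⊗[R] O) := by
  refine (isLocalization_iff _ _).2 ⟨?_, ?_, ?_⟩
  · rintro ⟨_, n, rfl⟩
    show IsUnit ((algebraMap R P₀ r ^ n : P₀) : A ⊗[R] O)
    rw [SubmonoidClass.coe_pow]
    refine IsUnit.pow n ?_
    show IsUnit (algebraMap R (A ⊗[R] O) r)
    rw [IsScalarTower.algebraMap_apply R A (A ⊗[R] O)]
    exact (IsLocalization.Away.algebraMap_isUnit r).map _
  · intro a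
    obtain ⟨n, hn⟩ := exists_pow_smul_mem_glue (B := B) r x x' hxx' a
    refine ⟨⟨⟨_, hn⟩, _, n, rfl⟩, ?_⟩
    show a * ((algebraMap R P₀ r ^ n : P₀) : A ⊗[R] O) = r ^ n • a
    rw [SubmonoidClass.coe_pow, Algebra.smul_def, map_pow, mul_comm]
    rfl
  · intro p q h
    exact ⟨1, by rw [Subtype.ext h]⟩

include r hxx' in
theorem exists_point_away (σ : P₀ →ₐ[R] R) :
    ∃ xA : O →ₐ[R] A, ∀ p : P₀, ev xA p.1 = algebraMap R A (σ p) := by
  haveI := isLocalization_glue r x x' hxx' (A := A) (B := B)
  have hu : IsUnit (((algebraMap R A).comp σ.toRingHom) (algebraMap R P₀ r)) := by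
    show IsUnit (algebraMap R A (σ (algebraMap R P₀ r)))
    rw [σ.commutes]
    exact IsLocalization.Away.algebraMap_isUnit r
  let L : A ⊗[R] O →+* A := IsLocalization.Away.lift (algebraMap R P₀ r) hu
  have hL : ∀ p : P₀, L p.1 = algebraMap R A (σ p) := fun p => IsLocalization.Away.lift_eq _ _ p
  have hR : ∀ c : R, L (algebraMap R (A ⊗[R] O) c) = algebraMap R A c := fun c => by
    have := hL (algebraMap R P₀ c)
    rw [σ.commutes] at this
    exact this
  have hA : ∀ a : A, L (a ⊗ₜ[R] (1 : O)) = a := fun a => by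
    have h : L.comp (Algebra.TensorProduct.includeLeftRingHom) = RingHom.id A := by
      refine IsLocalization.ringHom_ext (Submonoid.powers r) (RingHom.ext fun c => ?_)
      exact hR c
    exact RingHom.congr_fun h a
  let xA : O →ₐ[R] A := (AlgHom.mk L hR).comp Algebra.TensorProduct.includeRight
  refine ⟨xA, fun p => ?_⟩
  rw [← hL]
  generalize p.1 = z
  induction z using TensorProduct.induction_on with
  | zero => simp
  | add u v hu' hv => simp only [map_add, hu', hv]
  | tmul a f =>
    rw [ev_tmul]
    conv_rhs => rw [show a ⊗ₜ[R] f = (a ⊗ₜ[R] (1 : O)) * ((1 : A) ⊗ₜ[R] f) by simp, map_mul, hA]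
    rfl

include hxx' in
theorem exists_point_complete [Module.Flat R B]
    (hB : ∀ (n : ℕ) (b : B), ∃ (c : R) (b' : B), b = algebraMap R B c + r ^ n • b') (σ : P₀ →ₐ[R] R) :
    ∃ xB : O →ₐ[R] B, ∀ p : P₀, ev xB (psi r x hreg x' hx'x p) = algebraMap R B (σ p) := by
  let e := AlgEquiv.ofBijective (theta (A := A) r x hreg x' hx'x) (theta_bijective r x hreg x' hxx' hx'x hB)
  let η : B ⊗[R] P₀ →ₐ[B] B :=
    Algebra.TensorProduct.lift (AlgHom.id B B) ((Algebra.ofId R B).comp σ) fun _ _ => .all _ _
  let L : B ⊗[R] O →ₐ[B] B := η.comp e.symm.toAlgHom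
  refine ⟨(L.restrictScalars R).comp Algebra.TensorProduct.includeRight, fun p => ?_⟩
  have h : ev ((L.restrictScalars R).comp Algebra.TensorProduct.includeRight) = L :=
    Algebra.TensorProduct.ext' fun b f => by
      rw [ev_tmul]
      show b * L ((1 : B) ⊗ₜ[R] f) = L (b ⊗ₜ[R] f)
      rw [show b ⊗ₜ[R] f = b • ((1 : B) ⊗ₜ[R] f) by rw [TensorProduct.smul_tmul', smul_eq_mul, mul_one],
        map_smul, smul_eq_mul]
  rw [h]
  have he : e ((1 : B) ⊗ₜ[R] p) = psi r x hreg x' hx'x p := by
    show theta (A := A) r x hreg x' hx'x ((1 : B) ⊗ₜ[R] p) = _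
    rw [theta_tmul, one_smul]
  show η (e.symm (psi r x hreg x' hx'x p)) = _
  rw [← he, AlgEquiv.symm_apply_apply]
  simp [η]

include hreg hxx' hx'x in
/-- A section of the glued algebra factors the point. -/
theorem exists_factor [Module.Flat R B]
    (hB : ∀ (n : ℕ) (b : B), ∃ (c : R) (b' : B), b = algebraMap R B c + r ^ n • b') (σ : P₀ →ₐ[R] R) :
    ∃ (xA : O →ₐ[R] A) (xB : O →ₐ[R] B),
      conv x ((IsScalarTower.toAlgHom R A C).comp xA) = (IsScalarTower.toAlgHom R B C).comp xB := by
  obtain ⟨xA, hA⟩ := exists_point_away (A := A) (B := B) r x x' hxx' σ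
  obtain ⟨xB, hB'⟩ := exists_point_complete (A := A) r x hreg x' hxx' hx'x hB σ
  refine ⟨xA, xB, ?_⟩
  set yA := (IsScalarTower.toAlgHom R A C).comp xA
  set yB := (IsScalarTower.toAlgHom R B C).comp xB
  have hιA : ∀ z : A ⊗[R] O, ev yA (ιA A C O z) = algebraMap A C (ev xA z) := fun z => by
    induction z using TensorProduct.induction_on with
    | zero => simp
    | add u v hu hv => simp only [map_add, hu, hv]
    | tmul a f => simp [ιA, yA, ev_tmul]
  have hιB : ∀ z : B ⊗[R] O, ev yB (ιB B C O z) = algebraMap B C (ev xB z) := fun z => by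
    induction z using TensorProduct.induction_on with
    | zero => simp
    | add u v hu hv => simp only [map_add, hu, hv]
    | tmul b f => simp [ιB, yB, ev_tmul]
  have key : ∀ t : B ⊗[R] P₀, ev yA (trans x (ιB B C O (theta r x hreg x' hx'x t))) =
      ev yB (ιB B C O (theta r x hreg x' hx'x t)) := fun t => by
    induction t using TensorProduct.induction_on with
    | zero => simp
    | add u v hu hv => simp only [map_add, hu, hv]
    | tmul b p =>
      rw [theta_tmul, ιB_smul]
      simp only [map_smul]
      congr 1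
      rw [trans_psi, hιA, hA, hιB, hB', ← IsScalarTower.algebraMap_apply, ← IsScalarTower.algebraMap_apply]
  refine AlgHom.ext fun f => ?_
  obtain ⟨t, ht⟩ := (theta_bijective (A := A) r x hreg x' hxx' hx'x hB).2 ((1 : B) ⊗ₜ[R] f)
  have hk := key t
  rw [ht] at hk
  have h1 : ιB (R := R) B C O ((1 : B) ⊗ₜ[R] f) = (1 : C) ⊗ₜ[R] f := by simp [ιB]
  rw [h1, ev_trans, ev_tmul, one_mul] at hk
  exact hk

/-- The factorisation, when glued torsors with a point over the localisation have sections. -/
theorem exists_factor_of_sections [Module.FaithfullyFlat R B] [Algebra.FinitePresentation R O]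
    (hreg : IsSMulRegular B r)
    (hB : ∀ (n : ℕ) (b : B), ∃ (c : R) (b' : B), b = algebraMap R B c + r ^ n • b') (x : O →ₐ[R] C)
    (hsec : ∀ (P : Type u) (_ : CommRing P) (_ : Algebra R P) (_ : HopfRep.Comod R O P)
      (_ : GLin.IsCoactAlg R O P), Module.Flat R P → Algebra.FinitePresentation R P →
      Function.Surjective (PrimeSpectrum.comap (algebraMap R P)) →
      Function.Bijective (Algebra.TensorProduct.lift (GLin.coactAlgHom R O P)
        (Algebra.TensorProduct.includeLeft : P →ₐ[R] P ⊗[R] O) fun _ _ => .all _ _) →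
      Nonempty (P →ₐ[R] A) → Nonempty (P →ₐ[R] R)) :
    ∃ (xA : O →ₐ[R] A) (xB : O →ₐ[R] B),
      conv x ((IsScalarTower.toAlgHom R A C).comp xA) = (IsScalarTower.toAlgHom R B C).comp xB := by
  let x' : O →ₐ[R] C := x.comp (HopfAlgebra.antipodeAlgHom R O)
  have hxx' : ∀ z : C ⊗[R] O, trans x (trans x' z) = z := fun z => by
    rw [trans_trans, conv_antipode_left, trans_counit]
  have hx'x : ∀ z : C ⊗[R] O, trans x' (trans x z) = z := fun z => by
    rw [trans_trans, conv_antipode_right, trans_counit]
  let e := AlgEquiv.ofBijective (theta (A := A) r x hreg x' hx'x) (theta_bijective r x hreg x' hxx' hx'x hB)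
  letI := comodGlue (A := A) (B := B) x
  haveI : Module.Flat B (B ⊗[R] glue (A := A) (B := B) x) := Module.Flat.of_linearEquiv e.toLinearEquiv
  haveI : Algebra.FinitePresentation B (B ⊗[R] glue (A := A) (B := B) x) :=
    Algebra.FinitePresentation.equiv e.symm
  have hs : Function.Surjective (PrimeSpectrum.comap (algebraMap R (glue (A := A) (B := B) x))) := by
    intro p
    obtain ⟨q, hq⟩ := PrimeSpectrum.comap_surjective_of_faithfullyFlat (A := R) (B := B) p
    let π : glue (A := A) (B := B) x →ₐ[R] B :=
      ((ev ((Algebra.ofId R B).comp (Bialgebra.counitAlgHom R O))).restrictScalars R).comp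
        (psi r x hreg x' hx'x)
    refine ⟨PrimeSpectrum.comap π.toRingHom q, ?_⟩
    rw [← PrimeSpectrum.comap_comp_apply, ← hq]
    congr 1
    exact RingHom.ext fun c => π.commutes c
  obtain ⟨σ⟩ := hsec (glue (A := A) (B := B) x) inferInstance inferInstance inferInstance
    (isCoactAlg_glue x) (Module.Flat.of_flat_tensorProduct R _ B)
    (Algebra.FinitePresentation.of_finitePresentation_tensorProduct_of_faithfullyFlat B) hs
    (galGlue_bijective r x hreg x' hxx' hx'x hB)
    ⟨(((ev ((Algebra.ofId R A).comp (Bialgebra.counitAlgHom R O))).restrictScalars R).comp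
      (glue (A := A) (B := B) x).val)⟩
  exact exists_factor r x hreg x' hxx' hx'x hB σ

end Groth.Agent.GlueTors
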