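import Mathlib
import Groth.Prelude.Def_CoactBr
import Groth.Prelude.Def_NonAbH2

/-!
# Comodule algebras with bijective Galois map give torsors
-/

set_option autoImplicit false
set_option linter.style.haveILetI false
set_option backward.isDefEq.respectTransparency false
set_option backward.isDefEq.respectTransparency.types false

universe u

open CategoryTheory MonoidalCategory CartesianMonoidalCategory MonObj GrpObj AlgebraicGeometry Opposite
open scoped TensorProduct

noncomputable section

local instance braidedAlgSpecPseudo (R : Type u) [CommRing R] : (algSpec (CommRingCat.of R)).Braided :=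
  braidedAlgSpec

namespace Groth.Agent.GlueTors

variable (R O P : Type u) [CommRing R] [CommRing O] [CommRing P] [HopfAlgebra R O] [Algebra R P]
  [HopfRep.Comod R O P] [GLin.IsCoactAlg R O P]

/-- A bijective algebra map induces an isomorphism of affine schemes. -/
theorem isIso_pt {S T : Type u} [CommRing S] [CommRing T] [Algebra R S] [Algebra R T] (f : S →ₐ[R] T)
    (hf : Function.Bijective f) : IsIso (CoactBr.pt f) := by
  let e := AlgEquiv.ofBijective f hf
  refine ⟨CoactBr.pt (e.symm : _ →ₐ[R] _), ?_, ?_⟩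
  · rw [← CoactBr.pt_comp, ← CoactBr.pt_id]
    congr 1
    exact AlgHom.ext fun x => e.apply_symm_apply x
  · rw [← CoactBr.pt_comp, ← CoactBr.pt_id]
    congr 1
    exact AlgHom.ext fun x => e.symm_apply_apply x

/-- A bijective Galois map gives a pseudo-torsor. -/
theorem isPseudoTorsor_action
    (h : Function.Bijective (Algebra.TensorProduct.lift (GLin.coactAlgHom R O P)
      (Algebra.TensorProduct.includeLeft : P →ₐ[R] P ⊗[R] O) fun _ _ => .all _ _)) :
    NonAbH1.IsPseudoTorsorSch (CoactBr.action R O P) := by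
  let inl : P →ₐ[R] P ⊗[R] O := Algebra.TensorProduct.includeLeft
  let inr : O →ₐ[R] P ⊗[R] O := Algebra.TensorProduct.includeRight
  let w : CoactBr.sp R (P ⊗[R] O) ⟶ CoactBr.sp R P ⊗ CoactBr.sp R O :=
    lift (CoactBr.pt inl) (CoactBr.pt inr)
  have hw : w ≫ Functor.LaxMonoidal.μ (algSpec (CommRingCat.of R)) (op (.of R P)) (op (.of R O)) =
      𝟙 (CoactBr.sp R (P ⊗[R] O)) := by
    rw [CoactBr.lift_pt_pt, ← CoactBr.pt_id]
    congr 1
    exact Algebra.TensorProduct.ext' fun a b => by simp [inl, inr]
  haveI : IsIso w := by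
    haveI : IsIso (w ≫ Functor.LaxMonoidal.μ (algSpec (CommRingCat.of R)) (op (.of R P)) (op (.of R O))) := by
      rw [hw]
      exact IsIso.id _
    exact IsIso.of_isIso_comp_right w
      (Functor.LaxMonoidal.μ (algSpec (CommRingCat.of R)) (op (.of R P)) (op (.of R O)))
  have key : (w ≫ lift (CoactBr.ract R O P) (fst _ _)) ≫
      Functor.LaxMonoidal.μ (algSpec (CommRingCat.of R)) (op (.of R P)) (op (.of R P)) =
      CoactBr.pt (Algebra.TensorProduct.lift (GLin.coactAlgHom R O P) inl fun _ _ => .all _ _) := by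
    rw [comp_lift, lift_fst, CoactBr.lift_pt_ract, CoactBr.lift_pt_pt]
    congr 1
    refine Algebra.TensorProduct.ext' fun a b => ?_
    simp only [Algebra.TensorProduct.lift_tmul, AlgHom.comp_apply]
    congr 1
    have : (Algebra.TensorProduct.lift inl inr fun _ _ => .all _ _) = AlgHom.id R (P ⊗[R] O) :=
      Algebra.TensorProduct.ext' fun x y => by simp [inl, inr]
    rw [this]
    rfl
  haveI := isIso_pt R _ h
  haveI : IsIso ((w ≫ lift (CoactBr.ract R O P) (fst _ _)) ≫
      Functor.LaxMonoidal.μ (algSpec (CommRingCat.of R)) (op (.of R P)) (op (.of R P))) := by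
    rw [key]
    infer_instance
  haveI : IsIso (w ≫ lift (CoactBr.ract R O P) (fst _ _)) :=
    IsIso.of_isIso_comp_right _
      (Functor.LaxMonoidal.μ (algSpec (CommRingCat.of R)) (op (.of R P)) (op (.of R P)))
  haveI : IsIso (lift (CoactBr.ract R O P) (fst (CoactBr.sp R P) (CoactBr.sp R O))) :=
    IsIso.of_isIso_comp_left w _
  haveI : IsIso (ι[CoactBr.sp R O]) := ⟨ι[CoactBr.sp R O], inv_comp_inv _, inv_comp_inv _⟩
  have e : lift (CoactBr.action R O P).act (snd (CoactBr.sp R O) (CoactBr.sp R P)) =
      ((β_ (CoactBr.sp R O) (CoactBr.sp R P)).hom ≫ CoactBr.sp R P ◁ ι[CoactBr.sp R O]) ≫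
        lift (CoactBr.ract R O P) (fst _ _) := by
    rw [CoactBr.action_act, CoactBr.leftOfRight, comp_lift, Category.assoc, Category.assoc, whiskerLeft_fst,
      braiding_hom_fst]
  show IsIso _
  rw [e]
  infer_instance

/-- A flat, finitely presented, surjective affine scheme is locally trivial for fppf. -/
theorem isLocallyTrivial_spec [Module.Flat R P] [Algebra.FinitePresentation R P]
    (hs : Function.Surjective (PrimeSpectrum.comap (algebraMap R P))) :
    NonAbH1.IsLocallyTrivialFor Scheme.fppfPrecoverage (CoactBr.sp R P) := by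
  refine ⟨Presieve.singleton (Spec.map (CommRingCat.ofHom (algebraMap R P))), ?_, ?_⟩
  · rw [Scheme.fppfPrecoverage, Scheme.singleton_mem_precoverage_iff]
    refine ⟨hs, ?_, ?_⟩
    · rw [HasRingHomProperty.Spec_iff (P := @Flat)]
      exact RingHom.flat_algebraMap_iff.2 ‹_›
    · rw [HasRingHomProperty.Spec_iff (P := @LocallyOfFinitePresentation)]
      exact RingHom.finitePresentation_algebraMap.2 ‹_›
  · intro S' f hf
    obtain ⟨⟩ := hf
    exact ⟨𝟙 _, Category.id_comp _⟩

end Groth.Agent.GlueTors
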